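import Groth.Agent.FinCovLib.Frame
import Groth.Agent.FinLocFreeLib.Basic
import Groth.Agent.Codim1Iso.Scheme
import Groth.Agent.SpecQCAlg.Basic
import Mathlib.AlgebraicGeometry.Morphisms.FlatRank

/-!
# Covers of degree `d` and their algebras
-/

set_option autoImplicit false
set_option backward.isDefEq.respectTransparency false
set_option linter.style.haveILetI false

universe u

open CategoryTheory CategoryTheory.Limits AlgebraicGeometry Opposite TopologicalSpace

noncomputable section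

namespace Groth.Agent.FinCovLib

variable {X Y : Scheme.{u}} (f : X ⟶ Y)

/-- The degree at a point is the rank of a trivialisation of the direct image. -/
theorem finrank_eq_of_iso [IsFinite f] [Flat f] {U : Y.Opens} {n : ℕ}
    (e : ((Scheme.Modules.pushforward f).obj (Coh.structureModule X)).restrict U.ι ≅ FlatMod.freeMod (↑U) n)
    {y : Y} (hy : y ∈ U) : f.finrank y = n := by
  obtain ⟨σ, hσ⟩ := exists_isFrame_of_iso e
  obtain ⟨_, ⟨V : Y.Opens, hV, rfl⟩, hyV, hVU⟩ := Y.isBasis_affineOpens.exists_subset_of_mem_open hy U.2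
  have hb := (hσ.res (V := V) hVU).bijective
  letI : Algebra Γ(Y, V) Γ(X, f ⁻¹ᵁ V) := (f.app V).hom.toAlgebra
  let e₀ : Γ(X, f ⁻¹ᵁ V) ≃ₗ[Γ(Y, V)] Γ((Scheme.Modules.pushforward f).obj (Coh.structureModule X), V) :=
    { AddEquiv.refl _ with map_smul' := fun r s => Algebra.smul_def r s }
  let e₁ : Γ(X, f ⁻¹ᵁ V) ≃ₗ[Γ(Y, V)] (Fin n → Γ(Y, V)) := e₀.trans (LinearEquiv.ofBijective _ hb).symm
  haveI : Module.Free Γ(Y, V) Γ(X, f ⁻¹ᵁ V) := Module.Free.of_equiv e₁.symm
  haveI : Module.Finite Γ(Y, V) Γ(X, f ⁻¹ᵁ V) := Module.Finite.equiv e₁.symm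
  haveI : Nontrivial Γ(Y, V) := (Y.presheaf.germ V y hyV).hom.domain_nontrivial
  rw [show y = hV.fromSpec (hV.primeIdealOf ⟨y, hyV⟩) from (hV.fromSpec_primeIdealOf ⟨y, hyV⟩).symm,
    ← Scheme.Hom.finrank_of_isPullback _ _ f hV.fromSpec (Codim1Iso.isPullback_fromSpec f hV)]
  refine (Scheme.Hom.finrank_SpecMap_algebraMap Γ(Y, V) Γ(X, f ⁻¹ᵁ V) _).trans ?_
  rw [Module.rankAtStalk_eq_finrank_of_free, Pi.natCast_apply, e₁.finrank_eq]
  simp

theorem isCover_iff (d : ℕ) :
    FinCov.IsCover f d ↔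
      IsAffineHom f ∧ FlatMod.IsFinLocFreeOfRank d ((Scheme.Modules.pushforward f).obj (Coh.structureModule X)) := by
  constructor
  · rintro ⟨h, hd⟩
    haveI := h.1
    haveI := h.2.1
    refine ⟨inferInstance, fun y => ?_⟩
    obtain ⟨U, n, hy, ⟨e⟩⟩ := FinLocFreeLib.isFinLocFree_push f h y
    obtain rfl : n = d := (finrank_eq_of_iso f e hy).symm.trans (hd y)
    exact ⟨U, hy, ⟨e⟩⟩
  · rintro ⟨ha, hP⟩
    haveI := ha
    have h : Mor2.IsFinLocFree f := FinLocFreeLib.isFinLocFree_of_push f fun y =>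
      let ⟨U, hy, e⟩ := hP y
      ⟨U, d, hy, e⟩
    haveI := h.1
    haveI := h.2.1
    refine ⟨h, fun y => ?_⟩
    obtain ⟨U, hy, ⟨e⟩⟩ := hP y
    exact finrank_eq_of_iso f e hy

/-- The direct image of the structure sheaf of the relative spectrum is the algebra. -/
theorem nonempty_pushforward_π_iso (A : RelSpec.QCAlg Y) :
    Nonempty ((Scheme.Modules.pushforward A.π).obj (Coh.structureModule A.spec) ≅ A.toModule) := by
  letI := A.moduleSect
  let φ : (Scheme.Modules.pushforward A.π).obj (Coh.structureModule A.spec) ⟶ A.toModule :=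
    ⟨PresheafOfModules.homMk
      { app := fun U => AddCommGrpCat.ofHom (A.gammaMap.app U).hom.toAddMonoidHom
        naturality := fun U V i => by
          ext s
          exact congr($(A.gammaMap.naturality i) s) }
      fun U r s => by
        show (A.gammaMap.app U).hom ((show Γ(A.spec, A.π ⁻¹ᵁ U.unop) from (A.π.app U.unop).hom r) * (show Γ(A.spec, A.π ⁻¹ᵁ U.unop) from s)) = _
        rw [map_mul]
        exact congrArg (· * (A.gammaMap.app U).hom (show Γ(A.spec, A.π ⁻¹ᵁ U.unop) from s))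
          (ConcreteCategory.congr_hom (NatTrans.congr_app A.π_c_gammaMap U) r)⟩
  haveI := SpecQCAlg.isIso_gammaMap A
  haveI : IsIso φ := by
    refine Scheme.Modules.Hom.isIso_iff_isIso_app.2 fun U => ?_
    exact (ConcreteCategory.isIso_iff_bijective _).2 (ConcreteCategory.bijective_of_isIso (A.gammaMap.app (op U)))
  exact ⟨asIso φ⟩

theorem isCover_π (A : RelSpec.QCAlg Y) (d : ℕ) (hA : FlatMod.IsFinLocFreeOfRank d A.toModule) :
    FinCov.IsCover A.π d := by
  obtain ⟨e⟩ := nonempty_pushforward_π_iso A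
  refine (isCover_iff A.π d).2 ⟨inferInstance, fun y => ?_⟩
  obtain ⟨U, hy, ⟨e'⟩⟩ := hA y
  exact ⟨U, hy, ⟨(Scheme.Modules.restrictFunctor U.ι).mapIso e ≪≫ e'⟩⟩

end Groth.Agent.FinCovLib
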