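import Groth.Prelude.Def_FinCov
import Groth.Agent.DegDevLib.Frame
import Groth.Agent.ProjBundleLib.DegOne
import Mathlib.RingTheory.Trace.Basic

/-!
# Frames of quasi-coherent algebras and traces of regular representations
-/

set_option autoImplicit false
set_option backward.isDefEq.respectTransparency false
set_option linter.style.haveILetI false

universe u

open CategoryTheory CategoryTheory.Limits AlgebraicGeometry Opposite TopologicalSpace

noncomputable section

namespace Groth.Agent.FinCovLib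

/-- Traces of regular representations commute with a semilinear map carrying a basis to a basis. -/
theorem trace_map {R R' S S' : Type*} [CommRing R] [CommRing R'] [CommRing S] [CommRing S']
    [Algebra R S] [Algebra R' S'] {ι : Type*} [Fintype ι] (φ : R →+* R') (ψ : S →+* S')
    (hψ : ∀ r, ψ (algebraMap R S r) = algebraMap R' S' (φ r))
    (b : Module.Basis ι R S) (b' : Module.Basis ι R' S') (hb : ∀ i, ψ (b i) = b' i) (s : S) :
    Algebra.trace R' S' (ψ s) = φ (Algebra.trace R S s) := by
  classical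
  have hr : ∀ x i, b'.repr (ψ x) i = φ (b.repr x i) := fun x i => by
    have e : ψ x = ∑ j, φ (b.repr x j) • b' j := by
      conv_lhs => rw [← b.sum_repr x]
      simp [map_sum, Algebra.smul_def, hψ, hb]
    rw [e, b'.repr_sum_self]
  rw [Algebra.trace_eq_matrix_trace b, Algebra.trace_eq_matrix_trace b', Matrix.trace, Matrix.trace, map_sum]
  refine Finset.sum_congr rfl fun i _ => ?_
  simp only [Matrix.diag_apply, Algebra.leftMulMatrix_eq_repr_mul]
  rw [← hr, ψ.map_mul, hb]

/-- The kernel of a functional taking a unit value on a basis vector is free. -/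
theorem nonempty_ker_equiv {R M : Type*} [CommRing R] [AddCommGroup M] [Module R M] {n : ℕ}
    (b : Module.Basis (Fin (n + 1)) R M) (φ : M →ₗ[R] R) {i : Fin (n + 1)} (hi : IsUnit (φ (b i))) :
    Nonempty (LinearMap.ker φ ≃ₗ[R] (Fin n → R)) := by
  let F : LinearMap.ker φ →ₗ[R] (Fin n → R) :=
    LinearMap.pi fun j => (b.coord (i.succAbove j)) ∘ₗ (LinearMap.ker φ).subtype
  refine ⟨LinearEquiv.ofBijective F ⟨?_, fun c => ?_⟩⟩
  · rw [injective_iff_map_eq_zero]
    rintro ⟨x, hx⟩ h
    have hx' : x = b.repr x i • b i := by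
      conv_lhs => rw [← b.sum_repr x, Fin.sum_univ_succAbove _ i]
      refine add_eq_left.2 (Finset.sum_eq_zero fun j _ => ?_)
      rw [show b.repr x (i.succAbove j) = 0 from congrFun h j, zero_smul]
    have h0 : b.repr x i * φ (b i) = 0 := by
      rw [← smul_eq_mul, ← map_smul, ← hx']
      exact hx
    apply Subtype.ext
    show x = 0
    rw [hx', hi.mul_left_eq_zero.1 h0, zero_smul]
  · obtain ⟨v, hv⟩ := hi
    let y : M := ∑ j, c j • b (i.succAbove j)
    refine ⟨⟨y - (φ y * ↑v⁻¹) • b i, ?_⟩, ?_⟩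
    · show φ (y - (φ y * ↑v⁻¹) • b i) = 0
      rw [map_sub, map_smul, ← hv, smul_eq_mul, mul_assoc, Units.inv_mul, mul_one, sub_self]
    · funext j
      show b.repr (y - (φ y * ↑v⁻¹) • b i) (i.succAbove j) = c j
      simp [y, map_sum, Finsupp.single_apply, Fin.succAbove_ne i j, Ne.symm (Fin.succAbove_ne i j)]

variable {X : Scheme.{u}}

/-- A module isomorphism with a free module gives a frame. -/
theorem exists_isFrame_of_iso {E : X.Modules} {U : X.Opens} {n : ℕ}
    (e : E.restrict U.ι ≅ FlatMod.freeMod (↑U) n) :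
    ∃ f : Fin n → Γ(E, U), DegDevLib.IsFrame U f := by
  let E' := E.restrict U.ι
  let σ : Fin n → Γ(E', ⊤) := fun i =>
    (Sigma.ι (fun _ : Fin n => Coh.structureModule (U : Scheme.{u})) i ≫ e.inv).app ⊤ (1 : Γ(U, ⊤))
  have hle : U ≤ U.ι ''ᵁ ⊤ := U.ι_image_top.ge
  refine ⟨fun i => E.presheaf.map (homOfLE hle).op (σ i), fun y hy => ?_⟩
  let y' : U := ⟨y, hy⟩
  let T : (Fin n → (U : Scheme.{u}).presheaf.stalk y') → E'.presheaf.stalk y' := fun r =>
    PullbackMod.stalkLin e.inv y' (Fintype.linearCombination ((U : Scheme.{u}).presheaf.stalk y')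
      (DegDevLib.stdGerm (X := (U : Scheme.{u})) n y') r)
  have hT : Function.Bijective T :=
    ((PullbackMod.isIso_iff_stalk e.inv).1 inferInstance y').comp
      (DegDevLib.stdGerm_bijective (X := (U : Scheme.{u})) n y')
  let σr := (asIso (U.ι.stalkMap y')).commRingCatIsoToRingEquiv
  let eS : E'.presheaf.stalk y' ≃+ E.presheaf.stalk y :=
    ((Scheme.Modules.restrictStalkNatIso U.ι y').app E).addCommGroupIsoToAddEquiv
  have hgerm : ∀ i, eS (PullbackMod.stalkLin e.inv y' (DegDevLib.stdGerm (X := (U : Scheme.{u})) n y' i)) =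
      E.presheaf.germ U y hy (E.presheaf.map (homOfLE hle).op (σ i)) := by
    intro i
    have h1 : PullbackMod.stalkLin e.inv y' (DegDevLib.stdGerm (X := (U : Scheme.{u})) n y' i) =
        E'.presheaf.germ ⊤ y' trivial (σ i) := by
      rw [DegDevLib.stdGerm, ← LinearMap.comp_apply, ← PullbackMod.stalkLin_comp,
        ← AmpleLib.secHom_sec (_ ≫ e.inv)]
      exact CurveLib.stalkLin_secHom _ _
    rw [h1, E.presheaf.germ_res_apply]
    exact ConcreteCategory.congr_hom
      (Scheme.Modules.germ_restrictStalkNatIso_hom_app U.ι y' E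
        (show y' ∈ (⊤ : (U : Scheme.{u}).Opens) from trivial)) (σ i)
  have hsemi : ∀ r, eS (T (fun j => σr (r j))) = Fintype.linearCombination (X.presheaf.stalk y)
      (fun i => E.presheaf.germ U y hy (E.presheaf.map (homOfLE hle).op (σ i))) r := fun r => by
    simp only [T, Fintype.linearCombination_apply, map_sum, map_smul]
    refine Finset.sum_congr rfl fun i _ => ?_
    rw [← hgerm i]
    refine (DCohLib.restrictStalk_smul U.ι E y' _ _).trans ?_
    rw [RingEquiv.symm_apply_apply]
    rfl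
  rw [show (⇑(Fintype.linearCombination (X.presheaf.stalk y)
      (fun i => E.presheaf.germ U y hy (E.presheaf.map (homOfLE hle).op (σ i))))) =
    eS ∘ T ∘ (Equiv.piCongrRight fun _ => σr.toEquiv) from funext fun r => (hsemi r).symm]
  exact eS.bijective.comp (hT.comp (Equiv.bijective _))

variable (A : RelSpec.QCAlg X)

/-- Sections of a quasi-coherent algebra. -/
abbrev Sec (U : X.Opens) : Type u := A.presheaf.obj (op U)

/-- The algebra structure on the sections. -/
abbrev secAlgebra (U : X.Opens) : Algebra Γ(X, U) (Sec A U) := (A.str.app (op U)).hom.toAlgebra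

attribute [local instance] secAlgebra

/-- Restriction of sections. -/
abbrev res {U V : X.Opens} (h : V ≤ U) : Sec A U →+* Sec A V := (A.presheaf.map (homOfLE h).op).hom

/-- Restriction of functions. -/
abbrev resX {U V : X.Opens} (h : V ≤ U) : Γ(X, U) →+* Γ(X, V) := (X.presheaf.map (homOfLE h).op).hom

theorem res_res {U V W : X.Opens} (h : V ≤ U) (h' : W ≤ V) (a : Sec A U) :
    res A h' (res A h a) = res A (h'.trans h) a :=
  RelSpecLib.res_res A h h' a

omit A in
theorem resX_resX {U V W : X.Opens} (h : V ≤ U) (h' : W ≤ V) (a : Γ(X, U)) :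
    resX h' (resX h a) = resX (h'.trans h) a := by
  show (X.presheaf.map (homOfLE h).op ≫ X.presheaf.map (homOfLE h').op).hom a = _
  rw [← X.presheaf.map_comp]
  rfl

theorem res_self {U : X.Opens} (a : Sec A U) : res A (le_refl U) a = a :=
  (ConcreteCategory.congr_hom (A.presheaf.map_id (op U)) a)

omit A in
theorem resX_self {U : X.Opens} (a : Γ(X, U)) : resX (le_refl U) a = a :=
  (ConcreteCategory.congr_hom (X.presheaf.map_id (op U)) a)

theorem res_algebraMap {U V : X.Opens} (h : V ≤ U) (r : Γ(X, U)) :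
    res A h (algebraMap Γ(X, U) (Sec A U) r) = algebraMap Γ(X, V) (Sec A V) (resX h r) :=
  RelSpecLib.res_str A h r

theorem res_smul {U V : X.Opens} (h : V ≤ U) (r : Γ(X, U)) (a : Sec A U) :
    res A h (r • a) = resX h r • res A h a := by
  rw [Algebra.smul_def, Algebra.smul_def, map_mul, res_algebraMap]

/-- Sections forming a basis over every smaller open. -/
def IsFr {n : ℕ} (U : X.Opens) (f : Fin n → Sec A U) : Prop :=
  ∀ (V : X.Opens) (h : V ≤ U), Function.Bijective (Fintype.linearCombination Γ(X, V) fun i => res A h (f i))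

variable {A}

/-- The basis over a smaller open. -/
def IsFr.basis {n : ℕ} {U : X.Opens} {f : Fin n → Sec A U} (hf : IsFr A U f) {V : X.Opens} (h : V ≤ U) :
    Module.Basis (Fin n) Γ(X, V) (Sec A V) :=
  Module.Basis.ofEquivFun (LinearEquiv.ofBijective _ (hf V h)).symm

@[simp] theorem IsFr.basis_apply {n : ℕ} {U : X.Opens} {f : Fin n → Sec A U} (hf : IsFr A U f) {V : X.Opens}
    (h : V ≤ U) (i : Fin n) : hf.basis h i = res A h (f i) := by
  classical
  simp [IsFr.basis, LinearEquiv.ofBijective_apply, Fintype.linearCombination_apply_single]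

theorem IsFr.restrict {n : ℕ} {U V : X.Opens} {f : Fin n → Sec A U} (hf : IsFr A U f) (h : V ≤ U) :
    IsFr A V (fun i => res A h (f i)) := fun W h' => by
  simp only [res_res]
  exact hf W (h'.trans h)

variable (A)

/-- An open over which the algebra has a frame. -/
def Framed (U : X.Opens) : Prop := ∃ (n : ℕ) (f : Fin n → Sec A U), IsFr A U f

variable {A}

theorem Framed.mono {U V : X.Opens} (hU : Framed A U) (h : V ≤ U) : Framed A V := by
  obtain ⟨n, f, hf⟩ := hU
  exact ⟨n, _, hf.restrict h⟩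

theorem Framed.free {U : X.Opens} (hU : Framed A U) : Module.Free Γ(X, U) (Sec A U) := by
  obtain ⟨n, f, hf⟩ := hU
  exact Module.Free.of_basis (hf.basis le_rfl)

theorem Framed.finite {U : X.Opens} (hU : Framed A U) : Module.Finite Γ(X, U) (Sec A U) := by
  obtain ⟨n, f, hf⟩ := hU
  exact Module.Finite.of_basis (hf.basis le_rfl)

/-- A frame on stalks is a frame on sections. -/
theorem isFr_of_isFrame {n : ℕ} {U : X.Opens} {f : Fin n → Γ(A.toModule, U)}
    (hf : DegDevLib.IsFrame (E := A.toModule) U f) : IsFr A U f :=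
  fun _ h => (hf.res h).bijective

theorem exists_isFr_of_iso {U : X.Opens} {n : ℕ}
    (e : A.toModule.restrict U.ι ≅ FlatMod.freeMod (↑U) n) : ∃ f : Fin n → Sec A U, IsFr A U f := by
  obtain ⟨f, hf⟩ := exists_isFrame_of_iso e
  exact ⟨f, isFr_of_isFrame hf⟩

theorem exists_framed (hA : FlatMod.IsFinLocFree A.toModule) {U : X.Opens} {x : X} (hx : x ∈ U) :
    ∃ W : X.Opens, IsAffineOpen W ∧ x ∈ W ∧ W ≤ U ∧ Framed A W := by
  obtain ⟨U', n, hx', ⟨e⟩⟩ := hA x
  obtain ⟨f, hf⟩ := exists_isFr_of_iso e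
  obtain ⟨_, ⟨W : X.Opens, hW, rfl⟩, hxW, hWU⟩ :=
    X.isBasis_affineOpens.exists_subset_of_mem_open (show x ∈ ((U ⊓ U' : X.Opens) : Set X) from ⟨hx, hx'⟩)
      (U ⊓ U').2
  exact ⟨W, hW, hxW, fun y hy => (hWU hy).1, Framed.mono ⟨n, f, hf⟩ fun y hy => (hWU hy).2⟩

theorem exists_isFr_rank {d : ℕ} (hA : FlatMod.IsFinLocFreeOfRank d A.toModule) {U : X.Opens} {x : X} (hx : x ∈ U) :
    ∃ (W : X.Opens) (f : Fin d → Sec A W), IsAffineOpen W ∧ x ∈ W ∧ W ≤ U ∧ IsFr A W f := by
  obtain ⟨U', hx', ⟨e⟩⟩ := hA x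
  obtain ⟨f, hf⟩ := exists_isFr_of_iso e
  obtain ⟨_, ⟨W : X.Opens, hW, rfl⟩, hxW, hWU⟩ :=
    X.isBasis_affineOpens.exists_subset_of_mem_open (show x ∈ ((U ⊓ U' : X.Opens) : Set X) from ⟨hx, hx'⟩)
      (U ⊓ U').2
  exact ⟨W, _, hW, hxW, fun y hy => (hWU hy).1, hf.restrict fun y hy => (hWU hy).2⟩

end Groth.Agent.FinCovLib
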