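import Groth.Agent.FinCovLib.Rank
import Groth.Prelude.Def_Pic
import Groth.Agent.DCohLib.FreeInd
import Groth.Agent.InvExt.Main

/-!
# Rank-two algebras attached to a module with a pairing
-/

set_option autoImplicit false
set_option backward.isDefEq.respectTransparency false
set_option linter.style.haveILetI false

universe u

open CategoryTheory CategoryTheory.Limits AlgebraicGeometry Opposite TopologicalSpace TensorProduct

noncomputable section

namespace Groth.Agent.FinCovLib

attribute [local instance] secAlgebra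

variable {X : Scheme.{u}}

/-- The trace of a quadratic generator. -/
theorem trace_quad {R S : Type*} [CommRing R] [CommRing S] [Algebra R S] (b : Module.Basis (Fin 2) R S) (p q : R)
    (h0 : b 0 = 1) (h : b 1 * b 1 = algebraMap R S p + q • b 1) : Algebra.trace R S (b 1) = q := by
  classical
  have e : b 1 * b 1 = p • b 0 + q • b 1 := by rw [h, h0, Algebra.algebraMap_eq_smul_one]
  rw [Algebra.trace_eq_matrix_trace b, Matrix.trace, Fin.sum_univ_two, Matrix.diag_apply, Matrix.diag_apply,
    Algebra.leftMulMatrix_eq_repr_mul, Algebra.leftMulMatrix_eq_repr_mul, e]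
  rw [show b 1 * b 0 = b 1 by rw [h0, mul_one]]
  simp

/-- A generator of a module over an open. -/
def IsGen (L : X.Modules) (W : X.Opens) (g : Γ(L, W)) : Prop :=
  ∀ (V : X.Opens) (h : V ≤ W), Function.Bijective fun r : Γ(X, V) => r • L.presheaf.map (homOfLE h).op g

omit X in
theorem exists_isGen {X : Scheme.{u}} {L : X.Modules} (hL : FlatMod.IsFinLocFreeOfRank 1 L) {U : X.Opens} {x : X}
    (hx : x ∈ U) : ∃ (W : X.Opens) (g : Γ(L, W)), IsAffineOpen W ∧ x ∈ W ∧ W ≤ U ∧ IsGen L W g := by
  obtain ⟨U', hx', ⟨e⟩⟩ := hL x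
  obtain ⟨f, hf⟩ := exists_isFrame_of_iso e
  obtain ⟨_, ⟨W : X.Opens, hW, rfl⟩, hxW, hWU⟩ :=
    X.isBasis_affineOpens.exists_subset_of_mem_open (show x ∈ ((U ⊓ U' : X.Opens) : Set X) from ⟨hx, hx'⟩)
      (U ⊓ U').2
  have hWU' : W ≤ U' := fun y hy => (hWU hy).2
  refine ⟨W, L.presheaf.map (homOfLE hWU').op (f 0), hW, hxW, fun y hy => (hWU hy).1, fun V h => ?_⟩
  have hb := ((hf.res hWU').res h).bijective
  rw [show (fun r : Γ(X, V) => r • L.presheaf.map (homOfLE h).op (L.presheaf.map (homOfLE hWU').op (f 0))) =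
    Fintype.linearCombination Γ(X, V) (fun i => L.presheaf.map (homOfLE h).op (L.presheaf.map (homOfLE hWU').op (f i))) ∘
      (Equiv.funUnique (Fin 1) Γ(X, V)).symm from funext fun r => by simp [Fintype.linearCombination_apply]]
  exact hb.comp (Equiv.bijective _)

theorem isFinLocFreeOfRank_one_of_isInvertible {L : X.Modules} (hL : PicF.IsInvertible L) :
    FlatMod.IsFinLocFreeOfRank 1 L := fun x =>
  let ⟨U, hx, ⟨e⟩⟩ := hL x
  ⟨U, hx, ⟨e ≪≫ (DCohLib.freeModOne _).symm⟩⟩

variable (A : RelSpec.QCAlg X) {L : X.Modules} (j : L ⟶ A.toModule)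

variable {A} in
/-- The image of a section of the module in the algebra. -/
def jA (U : X.Opens) (l : Γ(L, U)) : Sec A U := j.app U l

/-- Every section is uniquely a function plus a section of the module. -/
def Pinned : Prop :=
  ∀ U : X.Opens, Function.Bijective fun p : Γ(X, U) × Γ(L, U) => algebraMap Γ(X, U) (Sec A U) p.1 + jA j U p.2

variable {A j}

theorem pinned_isFr (hj : Pinned A j) {W : X.Opens} {g : Γ(L, W)} (hg : IsGen L W g) :
    IsFr A W ![(1 : Sec A W), (jA j W g)] := by
  intro V h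
  let G : (Fin 2 → Γ(X, V)) → Γ(X, V) × Γ(L, V) := fun c => (c 0, c 1 • L.presheaf.map (homOfLE h).op g)
  have hG : Function.Bijective G := by
    refine ⟨fun c c' e => ?_, fun ⟨s, l⟩ => ?_⟩
    · obtain ⟨e₀, e₁⟩ := Prod.ext_iff.1 e
      funext i
      fin_cases i
      exacts [e₀, (hg V h).1 e₁]
    · obtain ⟨r, hr⟩ := (hg V h).2 l
      exact ⟨![s, r], Prod.ext rfl hr⟩
  rw [show (⇑(Fintype.linearCombination Γ(X, V) fun i => res A h (![(1 : Sec A W), (jA j W g)] i))) =
    (fun p : Γ(X, V) × Γ(L, V) => algebraMap Γ(X, V) (Sec A V) p.1 + jA j V p.2) ∘ G from funext fun c => ?_]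
  · exact (hj V).comp hG
  · rw [Fintype.linearCombination_apply, Fin.sum_univ_two]
    show c 0 • res A h (1 : Sec A W) + c 1 • res A h (jA j W g) =
      algebraMap Γ(X, V) (Sec A V) (c 0) + jA j V (c 1 • L.presheaf.map (homOfLE h).op g)
    rw [map_one, ← Algebra.algebraMap_eq_smul_one]
    congr 1
    refine Eq.symm ((Scheme.Modules.Hom.app_smul j _ _).trans ?_)
    rw [DCohLib.app_natural]
    rfl

theorem pinned_rank_two (hj : Pinned A j) (hL : FlatMod.IsFinLocFreeOfRank 1 L) :
    FlatMod.IsFinLocFreeOfRank 2 A.toModule := fun x => by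
  haveI := ProjBundleLib.isQCoh_toModule A
  obtain ⟨W, g, hW, hxW, -, hg⟩ := exists_isGen hL (U := ⊤) (x := x) trivial
  exact ⟨W, hxW, FlatLocus.nonempty_iso_freeMod A.toModule hW 2 ((pinned_isFr hj hg).basis le_rfl).equivFun⟩

/-- The trace of the image of a generator. -/
theorem pinned_tr_gen (hj : Pinned A j) {W : X.Opens} {g : Γ(L, W)} (hg : IsGen L W g) (p q : Γ(X, W))
    (h : (jA j W g) * (jA j W g) =
      algebraMap Γ(X, W) (Sec A W) p + q • (jA j W g)) :
    tr A W (jA j W g) = q := by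
  let b := (pinned_isFr hj hg).basis (le_refl W)
  have h1 : b 1 = (jA j W g) := by simp [b, res_self]
  have h0 : b 0 = 1 := by simp [b]
  rw [← h1] at h ⊢
  exact trace_quad b p q h0 h

theorem tmul_add_left (M N : X.Modules) (U : X.Opens) (a a' : M.val.obj (op U)) (b : N.val.obj (op U)) :
    SecTwist.tmul M N U (a + a') b = SecTwist.tmul M N U a b + SecTwist.tmul M N U a' b :=
  (congrArg ((SecTwist.toTensor M N).app (op U)).hom (TensorProduct.add_tmul a a' b)).trans (map_add _ _ _)

theorem tmul_add_right (M N : X.Modules) (U : X.Opens) (a : M.val.obj (op U)) (b b' : N.val.obj (op U)) :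
    SecTwist.tmul M N U a (b + b') = SecTwist.tmul M N U a b + SecTwist.tmul M N U a b' :=
  (congrArg ((SecTwist.toTensor M N).app (op U)).hom (TensorProduct.tmul_add a b b')).trans (map_add _ _ _)

theorem tmul_smul_left (M N : X.Modules) (U : X.Opens) (r : Γ(X, U)) (a : Γ(M, U)) (b : Γ(N, U)) :
    (SecTwist.tmul M N U (r • a) b : Γ(CohB1.tensorMod M N, U)) =
      r • (SecTwist.tmul M N U a b : Γ(CohB1.tensorMod M N, U)) :=
  (congrArg ((SecTwist.toTensor M N).app (op U)).hom (TensorProduct.smul_tmul' (R := Γ(X, U)) r a b).symm).trans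
    (((SecTwist.toTensor M N).app (op U)).hom.map_smul r _)

theorem tmul_smul_right (M N : X.Modules) (U : X.Opens) (r : Γ(X, U)) (a : Γ(M, U)) (b : Γ(N, U)) :
    (SecTwist.tmul M N U a (r • b) : Γ(CohB1.tensorMod M N, U)) =
      r • (SecTwist.tmul M N U a b : Γ(CohB1.tensorMod M N, U)) :=
  (congrArg ((SecTwist.toTensor M N).app (op U)).hom (TensorProduct.tmul_smul (R := Γ(X, U)) r a b)).trans
    (((SecTwist.toTensor M N).app (op U)).hom.map_smul r _)

/-- The value of a pairing on a pair of sections. -/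
def pair (m : CohB1.tensorMod L L ⟶ Coh.structureModule X) (U : X.Opens) (l l' : Γ(L, U)) : Γ(X, U) :=
  m.app U (SecTwist.tmul L L U l l')

variable (m : CohB1.tensorMod L L ⟶ Coh.structureModule X)

theorem pair_add_left (U : X.Opens) (a a' b : Γ(L, U)) : pair m U (a + a') b = pair m U a b + pair m U a' b :=
  (congrArg (m.app U) (tmul_add_left L L U a a' b)).trans (map_add (m.app U).hom _ _)

theorem pair_add_right (U : X.Opens) (a b b' : Γ(L, U)) : pair m U a (b + b') = pair m U a b + pair m U a b' :=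
  (congrArg (m.app U) (tmul_add_right L L U a b b')).trans (map_add (m.app U).hom _ _)

theorem pair_smul_left (U : X.Opens) (r : Γ(X, U)) (a b : Γ(L, U)) : pair m U (r • a) b = r * pair m U a b :=
  (congrArg (m.app U) (tmul_smul_left L L U r a b)).trans (Scheme.Modules.Hom.app_smul m r _)

theorem pair_smul_right (U : X.Opens) (r : Γ(X, U)) (a b : Γ(L, U)) : pair m U a (r • b) = r * pair m U a b :=
  (congrArg (m.app U) (tmul_smul_right L L U r a b)).trans (Scheme.Modules.Hom.app_smul m r _)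

theorem pair_zero_left (U : X.Opens) (b : Γ(L, U)) : pair m U 0 b = 0 := by
  rw [← zero_smul Γ(X, U) (0 : Γ(L, U)), pair_smul_left, zero_mul]

theorem pair_zero_right (U : X.Opens) (b : Γ(L, U)) : pair m U b 0 = 0 := by
  rw [← zero_smul Γ(X, U) (0 : Γ(L, U)), pair_smul_right, zero_mul]

theorem pair_res {U V : X.Opens} (h : V ≤ U) (a b : Γ(L, U)) :
    resX h (pair m U a b) =
      pair m V (L.presheaf.map (homOfLE h).op a) (L.presheaf.map (homOfLE h).op b) :=
  (ConcreteCategory.congr_hom (m.mapPresheaf.naturality (homOfLE h).op) (SecTwist.tmul L L U a b)).symm.trans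
    (congrArg (m.app V) (SecTwist.map_tmul L L (homOfLE h) a b))

/-- A bilinear family compatible with restriction is a pairing. -/
theorem exists_pairing (B : ∀ U : X.Opens, Γ(L, U) → Γ(L, U) → Γ(X, U))
    (hB₁ : ∀ U a a' b, B U (a + a') b = B U a b + B U a' b)
    (hB₂ : ∀ U a b b', B U a (b + b') = B U a b + B U a b')
    (hB₃ : ∀ U (r : Γ(X, U)) a b, B U (r • a) b = r * B U a b)
    (hB₄ : ∀ U (r : Γ(X, U)) a b, B U a (r • b) = r * B U a b)
    (hB₅ : ∀ {U V : X.Opens} (h : V ≤ U) a b,
      resX h (B U a b) = B V (L.presheaf.map (homOfLE h).op a) (L.presheaf.map (homOfLE h).op b)) :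
    ∃ μ : CohB1.tensorMod L L ⟶ Coh.structureModule X, ∀ U a b, pair μ U a b = B U a b := by
  let lift : ∀ U : X.Opens, Γ(L, U) ⊗[Γ(X, U)] Γ(L, U) →ₗ[Γ(X, U)] Γ(X, U) := fun U =>
    TensorProduct.lift (LinearMap.mk₂ Γ(X, U) (B U) (hB₁ U) (hB₃ U) (hB₂ U) (hB₄ U))
  let adj := PresheafOfModules.sheafificationAdjunction.{u, u, u, u}
    (J := Opens.grothendieckTopology X) (𝟙 X.ringCatSheaf.obj)
  let g : (CohB1.tensorPre L L : X.PresheafOfModules) ⟶
      (PresheafOfModules.restrictScalars (𝟙 X.ringCatSheaf.obj)).obj (Coh.structureModule X).val :=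
    { app := fun U => ModuleCat.ofHom (X := (CohB1.tensorPre L L : X.PresheafOfModules).obj U)
        (Y := ((PresheafOfModules.restrictScalars (𝟙 X.ringCatSheaf.obj)).obj (Coh.structureModule X).val).obj U)
        { toFun := fun z => lift U.unop z
          map_add' := (lift U.unop).map_add
          map_smul' := (lift U.unop).map_smul }
      naturality := fun {U V} i => by
        refine ModuleCat.MonoidalCategory.tensor_ext fun a b => ?_
        exact (hB₅ i.unop.le a b).symm }
  refine ⟨(adj.homEquiv _ _).symm g, fun U a b => ?_⟩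
  have e := (adj.homEquiv (CohB1.tensorPre L L : X.PresheafOfModules) (Coh.structureModule X)).apply_symm_apply g
  rw [Adjunction.homEquiv_unit] at e
  exact congrArg (fun φ => (PresheafOfModules.Hom.app φ (op U)).hom
    (a ⊗ₜ b : ↥((CohB1.tensorPre L L).obj (op U)))) e

/-- Two functions agreeing on all opens with a generator are equal. -/
theorem ext_gen (hL : FlatMod.IsFinLocFreeOfRank 1 L) (M : X.Modules) {U : X.Opens} {s t : Γ(M, U)}
    (h : ∀ (W : X.Opens) (hW : W ≤ U) (g : Γ(L, W)), IsGen L W g →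
      M.presheaf.map (homOfLE hW).op s = M.presheaf.map (homOfLE hW).op t) : s = t := by
  choose W g hWa hxW hWU hg using fun x : U => exists_isGen hL x.2
  exact TopCat.Sheaf.eq_of_locally_eq' (⟨M.presheaf, M.isSheaf⟩ : TopCat.Sheaf Ab X.carrier) W U
    (fun x => homOfLE (hWU x)) (fun x hx => Opens.mem_iSup.2 ⟨⟨x, hx⟩, hxW ⟨x, hx⟩⟩) s t
    fun x => h _ (hWU x) (g x) (hg x)

theorem IsGen.exists_eq {W : X.Opens} {g : Γ(L, W)} (hg : IsGen L W g) (l : Γ(L, W)) :
    ∃ r : Γ(X, W), r • g = l := by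
  obtain ⟨r, hr⟩ := (hg W le_rfl).2 l
  exact ⟨r, by rwa [show L.presheaf.map (homOfLE (le_refl W)).op g = g from
    ConcreteCategory.congr_hom (L.presheaf.map_id _) g] at hr⟩

theorem pair_comm (hL : FlatMod.IsFinLocFreeOfRank 1 L) (U : X.Opens) (a b : Γ(L, U)) :
    pair m U a b = pair m U b a := by
  refine ext_gen hL (Coh.structureModule X) fun W hW g hg => ?_
  show resX hW _ = resX hW _
  rw [pair_res, pair_res]
  obtain ⟨r, hr⟩ := hg.exists_eq (L.presheaf.map (homOfLE hW).op a)
  obtain ⟨r', hr'⟩ := hg.exists_eq (L.presheaf.map (homOfLE hW).op b)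
  rw [← hr, ← hr', pair_smul_left, pair_smul_right, pair_smul_left, pair_smul_right, mul_left_comm]

theorem pair_assoc (hL : FlatMod.IsFinLocFreeOfRank 1 L) (U : X.Opens) (a b c : Γ(L, U)) :
    pair m U a b • c = pair m U b c • a := by
  refine ext_gen hL L fun W hW g hg => ?_
  rw [Scheme.Modules.map_smul, Scheme.Modules.map_smul]
  show resX hW _ • _ = resX hW _ • _
  rw [pair_res, pair_res]
  obtain ⟨r, hr⟩ := hg.exists_eq (L.presheaf.map (homOfLE hW).op a)
  obtain ⟨r', hr'⟩ := hg.exists_eq (L.presheaf.map (homOfLE hW).op b)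
  obtain ⟨r'', hr''⟩ := hg.exists_eq (L.presheaf.map (homOfLE hW).op c)
  rw [← hr, ← hr', ← hr'', pair_smul_left, pair_smul_right, pair_smul_left, pair_smul_right, smul_smul, smul_smul]
  congr 1
  ring

theorem pinned_of_isDblAlg (h : FinCov.IsDblAlg L m A j) : Pinned A j := h.1

theorem app_dbl_gen (hL : FlatMod.IsFinLocFreeOfRank 1 L) (h : FinCov.IsDblAlg L m A j)
    {τ : A.toModule ⟶ Coh.structureModule X} (hτ : FinCov.IsTrace A τ) {U : X.Opens} (l : Γ(L, U)) :
    τ.app U (j.app U l) = (0 : Γ(X, U)) := by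
  refine ext_gen hL (Coh.structureModule X) fun W hW g hg => ?_
  show resX hW _ = resX hW (0 : Γ(X, U))
  rw [map_zero, ← app_map hW]
  show τ.app W (A.toModule.presheaf.map (homOfLE hW).op (j.app U l)) = _
  rw [← DCohLib.app_natural]
  obtain ⟨r, hr⟩ := hg.exists_eq (L.presheaf.map (homOfLE hW).op l)
  rw [← hr, Scheme.Modules.Hom.app_smul, Scheme.Modules.Hom.app_smul]
  have hA := isFinLocFree_of_rank (pinned_rank_two (pinned_of_isDblAlg m h) hL)
  have hfr : Framed A W := ⟨2, _, pinned_isFr (pinned_of_isDblAlg m h) hg⟩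
  have e : τ.app W (j.app W g) = (0 : Γ(X, W)) := by
    refine (app_eq_tr hA hτ hfr _).trans (pinned_tr_gen (pinned_of_isDblAlg m h) hg (pair m W g g) 0 ?_)
    rw [zero_smul, add_zero]
    exact h.2 W g g
  exact (congrArg (fun z : Γ(X, W) => r * z) e).trans (mul_zero r)

end Groth.Agent.FinCovLib
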