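import Groth.Agent.FinCovLib.Frame
import Mathlib.RingTheory.Localization.NormTrace

/-!
# The trace of a finite locally free quasi-coherent algebra
-/

set_option autoImplicit false
set_option backward.isDefEq.respectTransparency false
set_option linter.style.haveILetI false

universe u

open CategoryTheory CategoryTheory.Limits AlgebraicGeometry Opposite TopologicalSpace

noncomputable section

namespace Groth.Agent.FinCovLib

attribute [local instance] secAlgebra

variable {X : Scheme.{u}} {A : RelSpec.QCAlg X}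

variable (A) in
/-- The trace of the regular representation on sections. -/
def tr (U : X.Opens) : Sec A U →ₗ[Γ(X, U)] Γ(X, U) := Algebra.trace Γ(X, U) (Sec A U)

theorem tr_res {U V : X.Opens} (hU : Framed A U) (h : V ≤ U) (a : Sec A U) :
    tr A V (res A h a) = resX h (tr A U a) := by
  obtain ⟨n, f, hf⟩ := hU
  refine trace_map (resX h) (res A h) (res_algebraMap A h) (hf.basis le_rfl) (hf.basis h) (fun i => ?_) a
  rw [hf.basis_apply, hf.basis_apply, res_res]

theorem tr_res_basicOpen {U : X.Opens} (hU : IsAffineOpen U) (hfree : Module.Free Γ(X, U) (Sec A U))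
    (hfin : Module.Finite Γ(X, U) (Sec A U)) (r : Γ(X, U)) (a : Sec A U) :
    tr A (X.basicOpen r) (res A (X.basicOpen_le r) a) = resX (X.basicOpen_le r) (tr A U a) := by
  letI : Algebra Γ(X, U) Γ(X, X.basicOpen r) := (resX (X.basicOpen_le r)).toAlgebra
  letI : Algebra (Sec A U) (Sec A (X.basicOpen r)) := (res A (X.basicOpen_le r)).toAlgebra
  letI : Algebra Γ(X, U) (Sec A (X.basicOpen r)) :=
    ((algebraMap Γ(X, X.basicOpen r) (Sec A (X.basicOpen r))).comp (resX (X.basicOpen_le r))).toAlgebra
  haveI : IsScalarTower Γ(X, U) Γ(X, X.basicOpen r) (Sec A (X.basicOpen r)) := .of_algebraMap_eq fun _ => rfl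
  haveI : IsScalarTower Γ(X, U) (Sec A U) (Sec A (X.basicOpen r)) :=
    .of_algebraMap_eq fun t => (res_algebraMap A (X.basicOpen_le r) t).symm
  haveI : IsLocalization.Away r Γ(X, X.basicOpen r) := hU.isLocalization_basicOpen r
  haveI : IsLocalization (Algebra.algebraMapSubmonoid (Sec A U) (Submonoid.powers r)) (Sec A (X.basicOpen r)) := by
    rw [Algebra.algebraMapSubmonoid_powers]
    exact A.isQC U hU r
  haveI := hfree
  haveI := hfin
  exact Algebra.trace_localization Γ(X, U) (Submonoid.powers r) a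

/-- Functions agreeing on all framed opens are equal. -/
theorem ext_framed (hA : FlatMod.IsFinLocFree A.toModule) {U : X.Opens} {s t : Γ(X, U)}
    (h : ∀ (W : X.Opens) (hW : W ≤ U), IsAffineOpen W → Framed A W → resX hW s = resX hW t) : s = t := by
  choose W hWa hxW hWU hWF using fun x : U => exists_framed hA x.2
  exact X.sheaf.eq_of_locally_eq' W U (fun x => homOfLE (hWU x))
    (fun x hx => Opens.mem_iSup.2 ⟨⟨x, hx⟩, hxW ⟨x, hx⟩⟩) s t fun x => h _ (hWU x) (hWa x) (hWF x)

/-- The defining property of the trace of a section. -/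
def Char (U : X.Opens) (a : Sec A U) (t : Γ(X, U)) : Prop :=
  ∀ (W : X.Opens) (h : W ≤ U), Framed A W → resX h t = tr A W (res A h a)

theorem Char.unique (hA : FlatMod.IsFinLocFree A.toModule) {U : X.Opens} {a : Sec A U} {s t : Γ(X, U)}
    (hs : Char U a s) (ht : Char U a t) : s = t :=
  ext_framed hA fun W h _ hW => (hs W h hW).trans (ht W h hW).symm

theorem exists_char (hA : FlatMod.IsFinLocFree A.toModule) (U : X.Opens) (a : Sec A U) :
    ∃ t : Γ(X, U), Char U a t := by
  let ι := {W : X.Opens // W ≤ U ∧ Framed A W}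
  have hc : TopCat.Presheaf.IsCompatible X.presheaf (fun W : ι => W.1)
      (fun W : ι => tr A W.1 (res A W.2.1 a)) := fun W W' => by
    show resX inf_le_left (tr A W.1 (res A W.2.1 a)) = resX inf_le_right (tr A W'.1 (res A W'.2.1 a))
    rw [← tr_res W.2.2, ← tr_res W'.2.2, res_res, res_res]
  obtain ⟨t, ht, -⟩ := X.sheaf.existsUnique_gluing' (fun W : ι => W.1) U (fun W => homOfLE W.2.1)
    (fun x hx => by
      obtain ⟨W, -, hxW, hWU, hW⟩ := exists_framed hA hx
      exact Opens.mem_iSup.2 ⟨⟨W, hWU, hW⟩, hxW⟩) _ hc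
  exact ⟨t, fun W h hW => ht ⟨W, h, hW⟩⟩

/-- The trace as a morphism of modules. -/
theorem exists_trMap (hA : FlatMod.IsFinLocFree A.toModule) :
    ∃ τ : A.toModule ⟶ Coh.structureModule X, ∀ (U : X.Opens) (a : Sec A U), Char U a (τ.app U a) := by
  choose t ht using exists_char hA
  letI := A.moduleSect
  let φ : A.toModule ⟶ Coh.structureModule X :=
    ⟨PresheafOfModules.homMk
      { app := fun U => AddCommGrpCat.ofHom (AddMonoidHom.mk' (fun a => t U.unop a) fun a b =>
          Char.unique hA (ht _ _) fun W h hW => by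
            rw [map_add, map_add, map_add, ht _ a W h hW, ht _ b W h hW])
        naturality := fun U V i => by
          ext a
          show t V.unop (res A i.unop.le a) = resX i.unop.le (t U.unop a)
          exact Char.unique hA (ht _ _) fun W h hW => by
            rw [resX_resX, ht _ a W _ hW, res_res] }
      fun U r a => by
        show t U.unop (algebraMap Γ(X, U.unop) (Sec A U.unop) (show Γ(X, U.unop) from r) * (show Sec A U.unop from a)) =
          (show Γ(X, U.unop) from r) * t U.unop a
        exact Char.unique hA (ht _ _) fun W h hW => by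
          rw [map_mul, ht _ a W h hW, map_mul, res_algebraMap, ← Algebra.smul_def, map_smul, smul_eq_mul]⟩
  exact ⟨φ, ht⟩

theorem app_map {τ : A.toModule ⟶ Coh.structureModule X} {U V : X.Opens} (h : V ≤ U) (a : Sec A U) :
    τ.app V (res A h a) = resX h (τ.app U a) :=
  ConcreteCategory.congr_hom (τ.mapPresheaf.naturality (homOfLE h).op) a

theorem exists_isTrace (hA : FlatMod.IsFinLocFree A.toModule) :
    ∃ τ : A.toModule ⟶ Coh.structureModule X, FinCov.IsTrace A τ := by
  obtain ⟨τ, hτ⟩ := exists_trMap hA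
  refine ⟨τ, fun U hU hfree hfin a => ?_⟩
  show τ.app U a = tr A U a
  have hex : ∀ x : U, ∃ r : Γ(X, U), x.1 ∈ X.basicOpen r ∧ Framed A (X.basicOpen r) := fun x => by
    obtain ⟨W, -, hxW, hWU, hW⟩ := exists_framed hA x.2
    obtain ⟨r, hr, hxr⟩ := hU.exists_basicOpen_le (V := W) ⟨x.1, hxW⟩ x.2
    exact ⟨r, hxr, hW.mono hr⟩
  choose r hxr hr using hex
  refine X.sheaf.eq_of_locally_eq' (fun x => X.basicOpen (r x)) U (fun x => homOfLE (X.basicOpen_le (r x)))
    (fun x hx => Opens.mem_iSup.2 ⟨⟨x, hx⟩, hxr ⟨x, hx⟩⟩) _ _ fun x => ?_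
  exact (hτ U a _ (X.basicOpen_le (r x)) (hr x)).trans (tr_res_basicOpen hU hfree hfin (r x) a)

/-- A trace computes the regular trace on every framed open. -/
theorem app_eq_tr (hA : FlatMod.IsFinLocFree A.toModule) {τ : A.toModule ⟶ Coh.structureModule X}
    (hτ : FinCov.IsTrace A τ) {U : X.Opens} (hU : Framed A U) (a : Sec A U) : τ.app U a = tr A U a :=
  ext_framed hA fun W h hW hF => by
    rw [← app_map h a, ← tr_res hU h]
    exact hτ W hW hF.free hF.finite _

theorem isTrace_unique (hA : FlatMod.IsFinLocFree A.toModule) {τ τ' : A.toModule ⟶ Coh.structureModule X}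
    (hτ : FinCov.IsTrace A τ) (hτ' : FinCov.IsTrace A τ') : τ = τ' :=
  Scheme.Modules.hom_ext _ _ fun U => by
    ext a
    exact ext_framed hA fun W h _ hF => by
      rw [← app_map h, ← app_map h, app_eq_tr hA hτ hF, app_eq_tr hA hτ' hF]

theorem isFinLocFree_of_rank {d : ℕ} {M : X.Modules} (hA : FlatMod.IsFinLocFreeOfRank d M) :
    FlatMod.IsFinLocFree M := fun x =>
  let ⟨U, hx, e⟩ := hA x
  ⟨U, d, hx, e⟩

/-- The trace of a function is the rank times it. -/
theorem app_algebraMap {d : ℕ} (hA : FlatMod.IsFinLocFreeOfRank d A.toModule)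
    {τ : A.toModule ⟶ Coh.structureModule X} (hτ : FinCov.IsTrace A τ) {U : X.Opens} (s : Γ(X, U)) :
    τ.app U (algebraMap Γ(X, U) (Sec A U) s) = (d : Γ(X, U)) * s := by
  choose W f hWa hxW hWU hf using fun x : U => exists_isFr_rank hA x.2
  refine X.sheaf.eq_of_locally_eq' W U (fun x => homOfLE (hWU x))
    (fun x hx => Opens.mem_iSup.2 ⟨⟨x, hx⟩, hxW ⟨x, hx⟩⟩) _ _ fun x => ?_
  show resX (hWU x) _ = resX (hWU x) _
  rw [← app_map (hWU x), app_eq_tr (isFinLocFree_of_rank hA) hτ ⟨d, _, hf x⟩, res_algebraMap, map_mul, map_natCast]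
  show Algebra.trace _ _ _ = _
  rw [Algebra.trace_algebraMap_of_basis ((hf x).basis le_rfl), Fintype.card_fin, nsmul_eq_mul]

end Groth.Agent.FinCovLib
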