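import Groth.Agent.FinCovLib.Dbl
import Groth.Agent.QCohLib.Criterion

/-!
# The algebra `O ⊕ L` of an invertible module with a pairing
-/

set_option autoImplicit false
set_option backward.isDefEq.respectTransparency false
set_option linter.style.haveILetI false

universe u

open CategoryTheory CategoryTheory.Limits AlgebraicGeometry Opposite TopologicalSpace

noncomputable section

namespace Groth.Agent.FinCovLib

variable {X : Scheme.{u}} {L : X.Modules} (m : CohB1.tensorMod L L ⟶ Coh.structureModule X)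
  (hL : FlatMod.IsFinLocFreeOfRank 1 L)

/-- Sections of `O ⊕ L`. -/
@[nolint unusedArguments]
def Dbl (_m : CohB1.tensorMod L L ⟶ Coh.structureModule X) (_hL : FlatMod.IsFinLocFreeOfRank 1 L) (U : X.Opens) :
    Type u :=
  Γ(X, U) × Γ(L, U)

namespace Dbl

variable {m hL} {U : X.Opens}

/-- The function part. -/
def s (z : Dbl m hL U) : Γ(X, U) := Prod.fst z

/-- The module part. -/
def l (z : Dbl m hL U) : Γ(L, U) := Prod.snd z

variable (m hL) in
/-- A section from its parts. -/
def mk (r : Γ(X, U)) (v : Γ(L, U)) : Dbl m hL U := (r, v)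

@[ext] theorem ext {z w : Dbl m hL U} (h : z.s = w.s) (h' : z.l = w.l) : z = w := Prod.ext h h'

@[simp] theorem s_mk (r : Γ(X, U)) (v : Γ(L, U)) : (mk m hL r v).s = r := rfl
@[simp] theorem l_mk (r : Γ(X, U)) (v : Γ(L, U)) : (mk m hL r v).l = v := rfl

instance : AddCommGroup (Dbl m hL U) := inferInstanceAs (AddCommGroup (Γ(X, U) × Γ(L, U)))

instance : Mul (Dbl m hL U) :=
  ⟨fun z w => mk m hL (z.s * w.s + pair m U z.l w.l) (z.s • w.l + w.s • z.l)⟩

instance : One (Dbl m hL U) := ⟨mk m hL 1 0⟩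

@[simp] theorem s_add (z w : Dbl m hL U) : (z + w).s = z.s + w.s := rfl
@[simp] theorem l_add (z w : Dbl m hL U) : (z + w).l = z.l + w.l := rfl
@[simp] theorem s_zero : (0 : Dbl m hL U).s = 0 := rfl
@[simp] theorem l_zero : (0 : Dbl m hL U).l = 0 := rfl
@[simp] theorem s_mul (z w : Dbl m hL U) : (z * w).s = z.s * w.s + pair m U z.l w.l := rfl
@[simp] theorem l_mul (z w : Dbl m hL U) : (z * w).l = z.s • w.l + w.s • z.l := rfl
@[simp] theorem s_one : (1 : Dbl m hL U).s = 1 := rfl
@[simp] theorem l_one : (1 : Dbl m hL U).l = 0 := rfl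

instance : CommRing (Dbl m hL U) where
  left_distrib a b c := by
    ext
    · simp [mul_add, pair_add_right]; abel
    · simp [smul_add, add_smul]; abel
  right_distrib a b c := by
    ext
    · simp [add_mul, pair_add_left]; abel
    · simp [smul_add, add_smul]; abel
  zero_mul a := by ext <;> simp [pair_zero_left]
  mul_zero a := by ext <;> simp [pair_zero_right]
  one_mul a := by ext <;> simp [pair_zero_left]
  mul_one a := by ext <;> simp [pair_zero_right]
  mul_comm a b := by
    ext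
    · simp [pair_comm m hL U a.l b.l, mul_comm]
    · simp [add_comm]
  mul_assoc a b c := by
    ext
    · simp only [s_mul, l_mul, pair_add_left, pair_add_right, pair_smul_left, pair_smul_right]
      ring
    · simp only [s_mul, l_mul, smul_add, smul_smul, add_smul, pair_assoc m hL U a.l b.l c.l,
        mul_comm c.s a.s, mul_comm c.s b.s]
      abel
  neg_add_cancel a := neg_add_cancel a

/-- Restriction. -/
def map {V : X.Opens} (h : V ≤ U) : Dbl m hL U →+* Dbl m hL V where
  toFun z := mk m hL (resX h z.s) (L.presheaf.map (homOfLE h).op z.l)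
  map_one' := by ext <;> simp
  map_zero' := by ext <;> simp
  map_add' z w := by ext <;> simp
  map_mul' z w := by
    ext
    · simp [pair_res]
    · simp [Scheme.Modules.map_smul]

/-- The structure map. -/
def str (U : X.Opens) : Γ(X, U) →+* Dbl m hL U where
  toFun r := mk m hL r 0
  map_one' := rfl
  map_zero' := rfl
  map_add' z w := by ext <;> simp
  map_mul' z w := by ext <;> simp [pair_zero_left]

end Dbl

/-- The presheaf of rings `O ⊕ L`. -/
def dblPresheaf : TopCat.Presheaf CommRingCat.{u} X.carrier where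
  obj U := CommRingCat.of (Dbl m hL U.unop)
  map i := CommRingCat.ofHom (Dbl.map i.unop.le)
  map_id U := CommRingCat.hom_ext <| RingHom.ext fun z => Dbl.ext (m := m) (hL := hL)
    (resX_self (Dbl.s (m := m) (hL := hL) z))
    (ConcreteCategory.congr_hom (L.presheaf.map_id U) (Dbl.l (m := m) (hL := hL) z))
  map_comp {U V W} i k := CommRingCat.hom_ext <| RingHom.ext fun z => Dbl.ext (m := m) (hL := hL)
    (resX_resX i.unop.le k.unop.le (Dbl.s (m := m) (hL := hL) z)).symm
    (ConcreteCategory.congr_hom (L.presheaf.map_comp i k) (Dbl.l (m := m) (hL := hL) z))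

theorem isSheaf_dblPresheaf : (dblPresheaf m hL).IsSheaf := by
  rw [TopCat.Presheaf.isSheaf_iff_isSheafUniqueGluing]
  intro ι U sf hsf
  obtain ⟨t, ht, htu⟩ := X.sheaf.existsUnique_gluing U (fun i => (show Dbl m hL (U i) from sf i).s)
    fun i j => congrArg (Dbl.s (m := m) (hL := hL) (U := U i ⊓ U j)) (hsf i j)
  obtain ⟨v, hv, hvu⟩ := TopCat.Sheaf.existsUnique_gluing (⟨L.presheaf, L.isSheaf⟩ : TopCat.Sheaf Ab X.carrier) U
    (fun i => (show Dbl m hL (U i) from sf i).l) fun i j => congrArg (Dbl.l (m := m) (hL := hL) (U := U i ⊓ U j)) (hsf i j)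
  exact ⟨Dbl.mk m hL t v, fun i => Dbl.ext (ht i) (hv i),
    fun z hz => Dbl.ext (htu _ fun i => congrArg (Dbl.s (m := m) (hL := hL) (U := U i)) (hz i)) (hvu _ fun i => congrArg (Dbl.l (m := m) (hL := hL) (U := U i)) (hz i))⟩

/-- The structure map of `O ⊕ L`. -/
def dblStr : X.presheaf ⟶ dblPresheaf m hL where
  app U := CommRingCat.ofHom (Dbl.str (m := m) (hL := hL) U.unop)
  naturality U V i := by
    ext r
    exact Dbl.ext (m := m) (hL := hL) rfl (map_zero (L.presheaf.map (homOfLE i.unop.le).op).hom).symm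

theorem isQC_dblStr : RelSpec.IsQC (dblPresheaf m hL) (dblStr m hL) := by
  intro W hW r
  haveI := InvExt.isQCoh_of_isInvertible (A := L) fun x => by
    obtain ⟨U, hx, ⟨e⟩⟩ := hL x
    exact ⟨U, hx, ⟨e ≪≫ DCohLib.freeModOne _⟩⟩
  have hle : X.basicOpen r ≤ W := X.basicOpen_le r
  have lL := QCohLib.locAt L hW
  letI : Algebra Γ(X, W) Γ(X, X.basicOpen r) := (resX hle).toAlgebra
  haveI : IsLocalization.Away r Γ(X, X.basicOpen r) := hW.isLocalization_basicOpen r
  letI : Algebra (Dbl m hL W) (Dbl m hL (X.basicOpen r)) := (Dbl.map hle).toAlgebra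
  show IsLocalization.Away (Dbl.str (m := m) (hL := hL) W r) (Dbl m hL (X.basicOpen r))
  have hpow : ∀ (V : X.Opens) (a : Γ(X, V)) (n : ℕ) (z : Dbl m hL V),
      Dbl.str V a ^ n * z = Dbl.mk m hL (a ^ n * z.s) (a ^ n • z.l) := fun V a n z => by
    rw [← map_pow]
    ext <;> simp [Dbl.str, pair_zero_left]
  have hres : algebraMap (Dbl m hL W) (Dbl m hL (X.basicOpen r)) (Dbl.str W r) =
      Dbl.str (X.basicOpen r) (resX hle r) := Dbl.ext rfl (map_zero (L.presheaf.map (homOfLE hle).op).hom)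
  refine IsLocalization.Away.mk _ (hres ▸ (RingedSpace.isUnit_res_basicOpen X.toRingedSpace r).map _)
    (fun z => ?_) (fun a b hab => ?_)
  · obtain ⟨n₁, a, ha⟩ := IsLocalization.Away.surj r z.s
    obtain ⟨n₂, b, hb⟩ := lL.extend r z.l
    rw [CohBase.sc_apply] at hb
    refine ⟨n₁ + n₂, Dbl.mk m hL (r ^ n₂ * a) (r ^ n₁ • b), ?_⟩
    rw [hres, mul_comm, hpow]
    refine Dbl.ext ?_ ?_
    · show resX hle r ^ (n₁ + n₂) * z.s = resX hle (r ^ n₂ * a)
      rw [map_mul, map_pow, show resX hle a = z.s * resX hle r ^ n₁ from ha.symm, pow_add]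
      ring
    · show resX hle r ^ (n₁ + n₂) • z.l = L.presheaf.map (homOfLE hle).op (r ^ n₁ • b)
      rw [Scheme.Modules.map_smul, hb]
      show _ = resX hle (r ^ n₁) • resX hle (r ^ n₂) • z.l
      rw [map_pow, map_pow, smul_smul, pow_add]
  · obtain ⟨⟨_, n₁, rfl⟩, hn₁⟩ := (IsLocalization.eq_iff_exists (Submonoid.powers r) Γ(X, X.basicOpen r)).1
      (show algebraMap Γ(X, W) Γ(X, X.basicOpen r) a.s = algebraMap Γ(X, W) Γ(X, X.basicOpen r) b.s from
        congrArg Dbl.s hab)
    obtain ⟨n₂, hn₂⟩ := lL.kill r (a.l - b.l) (by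
      rw [map_sub, sub_eq_zero]
      exact congrArg Dbl.l hab)
    rw [CohBase.sc_apply] at hn₂
    have hn₂' : r ^ n₂ • a.l = r ^ n₂ • b.l := by
      have : resX (le_refl W) (r ^ n₂) • (a.l - b.l) = 0 := hn₂
      rwa [resX_self, smul_sub, sub_eq_zero] at this
    refine ⟨n₁ + n₂, ?_⟩
    rw [hpow, hpow]
    refine Dbl.ext ?_ ?_
    · show r ^ (n₁ + n₂) * a.s = r ^ (n₁ + n₂) * b.s
      rw [pow_add, mul_comm (r ^ n₁), mul_assoc, mul_assoc]
      exact congrArg _ hn₁
    · show r ^ (n₁ + n₂) • a.l = r ^ (n₁ + n₂) • b.l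
      rw [pow_add, ← smul_smul, ← smul_smul, hn₂']

/-- The quasi-coherent algebra `O ⊕ L`. -/
def dblAlg : RelSpec.QCAlg X := ⟨dblPresheaf m hL, isSheaf_dblPresheaf m hL, dblStr m hL, isQC_dblStr m hL⟩

include hL in
theorem exists_isDblAlg :
    ∃ (A : RelSpec.QCAlg X) (j : L ⟶ A.toModule), FinCov.IsDblAlg L m A j := by
  letI := (dblAlg m hL).moduleSect
  let j : L ⟶ (dblAlg m hL).toModule :=
    ⟨PresheafOfModules.homMk
      { app := fun U => AddCommGrpCat.ofHom (AddMonoidHom.mk' (fun v => Dbl.mk m hL (0 : Γ(X, U.unop)) v)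
          fun a b => Dbl.ext (add_zero _).symm rfl)
        naturality := fun U V i => by
          ext v
          exact Dbl.ext (m := m) (hL := hL) (map_zero (resX i.unop.le)).symm rfl }
      fun U r v => by
        refine Dbl.ext (m := m) (hL := hL) ?_ ?_
        · show (0 : Γ(X, U.unop)) = (show Γ(X, U.unop) from r) * 0 + pair m U.unop 0 v
          rw [mul_zero, pair_zero_left, add_zero]
        · show (show Γ(X, U.unop) from r) • (show Γ(L, U.unop) from v) =
            (show Γ(X, U.unop) from r) • (show Γ(L, U.unop) from v) + (0 : Γ(X, U.unop)) • (0 : Γ(L, U.unop))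
          rw [zero_smul, add_zero]⟩
  refine ⟨dblAlg m hL, j, fun U => ?_, fun U v v' => ?_⟩
  · refine ⟨fun p q h => ?_, fun z => ⟨((show Dbl m hL U from z).s, (show Dbl m hL U from z).l), ?_⟩⟩
    · have h1 : p.1 + 0 = q.1 + 0 := congrArg (Dbl.s (m := m) (hL := hL) (U := U)) h
      have h2 : (0 : Γ(L, U)) + (show Γ(L, U) from p.2) = 0 + (show Γ(L, U) from q.2) := congrArg (Dbl.l (m := m) (hL := hL) (U := U)) h
      rw [add_zero, add_zero] at h1
      rw [zero_add, zero_add] at h2
      exact Prod.ext h1 h2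
    · exact Dbl.ext (m := m) (hL := hL) (add_zero _) (zero_add _)
  · refine Dbl.ext (m := m) (hL := hL) ?_ ?_
    · show (0 : Γ(X, U)) * 0 + pair m U v v' = pair m U v v'
      rw [zero_mul, zero_add]
    · show (0 : Γ(X, U)) • (show Γ(L, U) from v') + (0 : Γ(X, U)) • (show Γ(L, U) from v) = (0 : Γ(L, U))
      rw [zero_smul, zero_smul, add_zero]

theorem exists_isDblAlg_kernel {A : RelSpec.QCAlg X} (hA : FlatMod.IsFinLocFreeOfRank 2 A.toModule)
    {τ : A.toModule ⟶ Coh.structureModule X} (hτ : FinCov.IsTrace A τ) (h2 : IsUnit (2 : Γ(X, ⊤))) :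
    ∃ μ : CohB1.tensorMod (kernel τ) (kernel τ) ⟶ Coh.structureModule X,
      FinCov.IsDblAlg (kernel τ) μ A (kernel.ι τ) := by
  letI := fun U => secAlgebra A U
  have hd : IsUnit (((2 : ℕ) : Γ(X, ⊤))) := by simpa using h2
  obtain ⟨c, hc⟩ := exists_half hd
  obtain ⟨s, hs⟩ := exists_section hA hτ hd
  have hk : FlatMod.IsFinLocFreeOfRank 1 (kernel τ) := isFinLocFreeOfRank_kernel hA hτ hd
  let cU : ∀ U : X.Opens, Γ(X, U) := fun U => resX le_top c
  have hcU : ∀ U, ((2 : ℕ) : Γ(X, U)) * cU U = 1 := fun U => by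
    rw [← map_natCast (resX (show U ≤ ⊤ from le_top)), ← map_mul, hc, map_one]
  let ι' : ∀ U : X.Opens, Γ(kernel τ, U) → Sec A U := fun U => jA (kernel.ι τ) U
  have hker : ∀ U v, lmap τ U (ι' U v) = 0 := fun U v => by
    obtain ⟨e, he⟩ := exists_kerEquiv hs U
    have := (e v).2
    rwa [he] at this
  have hbij : Pinned A (kernel.ι τ) := fun U => by
    obtain ⟨e, he⟩ := exists_kerEquiv hs U
    have hτs : ∀ r, lmap τ U (algebraMap Γ(X, U) (Sec A U) r) = ((2 : ℕ) : Γ(X, U)) * r :=
      fun r => app_algebraMap hA hτ r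
    refine ⟨fun p q h => ?_, fun a => ?_⟩
    · have h' : lmap τ U (algebraMap Γ(X, U) (Sec A U) p.1 + ι' U p.2) =
          lmap τ U (algebraMap Γ(X, U) (Sec A U) q.1 + ι' U q.2) := congrArg _ h
      rw [map_add, map_add, hker, hker, add_zero, add_zero, hτs, hτs] at h'
      have h1 : p.1 = q.1 := by linear_combination (cU U) * h' + (q.1 - p.1) * hcU U
      refine Prod.ext h1 (e.injective (Subtype.ext ?_))
      rw [he, he]
      have : algebraMap Γ(X, U) (Sec A U) p.1 + ι' U p.2 = algebraMap Γ(X, U) (Sec A U) q.1 + ι' U q.2 := h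
      rw [h1] at this
      exact add_left_cancel this
    · have hmem : a - algebraMap Γ(X, U) (Sec A U) (cU U * lmap τ U a) ∈ LinearMap.ker (lmap τ U) := by
        rw [LinearMap.mem_ker, map_sub, hτs, ← mul_assoc, hcU, one_mul, sub_self]
      refine ⟨(cU U * lmap τ U a, e.symm ⟨_, hmem⟩), ?_⟩
      have he' : ι' U (e.symm ⟨_, hmem⟩) = a - algebraMap Γ(X, U) (Sec A U) (cU U * lmap τ U a) := by
        rw [show ι' U (e.symm ⟨_, hmem⟩) = ((e (e.symm ⟨_, hmem⟩)).1 : Sec A U) from (he _).symm, e.apply_symm_apply]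
      show algebraMap Γ(X, U) (Sec A U) (cU U * lmap τ U a) + ι' U (e.symm ⟨_, hmem⟩) = a
      rw [he', add_sub_cancel]
  have hlin : ∀ (U : X.Opens) (r : Γ(X, U)) (v : Γ(kernel τ, U)), ι' U (r • v) = r • ι' U v :=
    fun U r v => Scheme.Modules.Hom.app_smul (kernel.ι τ) r v
  have hadd : ∀ (U : X.Opens) (v w : Γ(kernel τ, U)), ι' U (v + w) = ι' U v + ι' U w :=
    fun U v w => map_add ((kernel.ι τ).app U).hom v w
  have hnat : ∀ {U V : X.Opens} (h : V ≤ U) (v : Γ(kernel τ, U)),
      res A h (ι' U v) = ι' V ((kernel τ).presheaf.map (homOfLE h).op v) :=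
    fun h v => (DCohLib.app_natural (kernel.ι τ) h v).symm
  let B : ∀ U : X.Opens, Γ(kernel τ, U) → Γ(kernel τ, U) → Γ(X, U) := fun U v w =>
    cU U * lmap τ U (ι' U v * ι' U w)
  obtain ⟨μ, hμ⟩ := exists_pairing B
    (fun U a a' b => by simp only [B, hadd, add_mul, map_add, mul_add])
    (fun U a b b' => by simp only [B, hadd, map_add, mul_add])
    (fun U r a b => by simp only [B, hlin, smul_mul_assoc, map_smul, smul_eq_mul]; ring)
    (fun U r a b => by simp only [B, hlin, mul_smul_comm, map_smul, smul_eq_mul]; ring)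
    (fun {U V} h a b => by
      show resX h (cU U * lmap τ U (ι' U a * ι' U b)) = cU V * lmap τ V (ι' V _ * ι' V _)
      rw [map_mul, resX_resX, lmap_apply, lmap_apply, ← app_map h, map_mul (res A h), hnat, hnat])
  refine ⟨μ, hbij, fun U v w => ?_⟩
  show ι' U v * ι' U w = algebraMap Γ(X, U) (Sec A U) (pair μ U v w)
  rw [hμ]
  refine ext_gen hk A.toModule fun W hW g hg => ?_
  show res A hW (ι' U v * ι' U w) = res A hW (algebraMap Γ(X, U) (Sec A U) (cU U * lmap τ U (ι' U v * ι' U w)))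
  rw [res_algebraMap, map_mul (resX hW), resX_resX, lmap_apply, ← app_map hW, map_mul, hnat, hnat]
  obtain ⟨a, ha⟩ := hg.exists_eq ((kernel τ).presheaf.map (homOfLE hW).op v)
  obtain ⟨b, hb⟩ := hg.exists_eq ((kernel τ).presheaf.map (homOfLE hW).op w)
  rw [← ha, ← hb, hlin, hlin]
  obtain ⟨⟨p, k⟩, hpk⟩ := (hbij W).2 (ι' W g * ι' W g)
  obtain ⟨q, hq⟩ := hg.exists_eq k
  have hgg : ι' W g * ι' W g = algebraMap Γ(X, W) (Sec A W) p + q • ι' W g := by
    rw [← hlin, hq]
    exact hpk.symm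
  have hq0 : q = 0 := by
    rw [← pinned_tr_gen hbij hg p q hgg,
      ← app_eq_tr (isFinLocFree_of_rank hA) hτ ⟨2, _, pinned_isFr hbij hg⟩]
    exact hker W g
  rw [hq0, zero_smul, add_zero] at hgg
  rw [smul_mul_smul_comm, hgg, ← lmap_apply, map_smul, lmap_apply, app_algebraMap hA hτ, Algebra.smul_def,
    ← map_mul]
  congr 1
  have e2 : ((2 : ℕ) : Γ(X, W)) * resX (show W ≤ ⊤ from le_top) c = 1 := hcU W
  linear_combination (-(a * b * p)) * e2

end Groth.Agent.FinCovLib
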