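import Groth.Agent.FinCovLib.Trace
import Groth.Agent.FlatLocus.FreeNhd
import Groth.Agent.CohBase.Affine
import Groth.Agent.QCohLib.Exact

/-!
# Splitting the trace and the rank of its kernel
-/

set_option autoImplicit false
set_option backward.isDefEq.respectTransparency false
set_option linter.style.haveILetI false

universe u

open CategoryTheory CategoryTheory.Limits AlgebraicGeometry Opposite TopologicalSpace

noncomputable section

namespace Groth.Agent.FinCovLib

attribute [local instance] secAlgebra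

variable {X : Scheme.{u}} {A : RelSpec.QCAlg X}

/-- The component of a functional as a linear map on algebra sections. -/
def lmap (τ : A.toModule ⟶ Coh.structureModule X) (U : X.Opens) : Sec A U →ₗ[Γ(X, U)] Γ(X, U) where
  toFun := τ.app U
  map_add' := map_add (τ.app U).hom
  map_smul' r a := Scheme.Modules.Hom.app_smul τ r a

@[simp] theorem lmap_apply (τ : A.toModule ⟶ Coh.structureModule X) {U : X.Opens} (a : Sec A U) :
    lmap τ U a = τ.app U a := rfl

theorem exists_half {d : ℕ} (hd : IsUnit ((d : Γ(X, ⊤)))) : ∃ c : Γ(X, ⊤), (d : Γ(X, ⊤)) * c = 1 :=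
  ⟨↑hd.unit⁻¹, hd.mul_val_inv⟩

/-- The section of the trace when the rank is invertible. -/
theorem exists_section {d : ℕ} (hA : FlatMod.IsFinLocFreeOfRank d A.toModule)
    {τ : A.toModule ⟶ Coh.structureModule X} (hτ : FinCov.IsTrace A τ) (hd : IsUnit ((d : Γ(X, ⊤)))) :
    ∃ s : Coh.structureModule X ⟶ A.toModule, s ≫ τ = 𝟙 _ := by
  obtain ⟨c, hc⟩ := exists_half hd
  refine ⟨DCohLib.secHom A.toModule (algebraMap Γ(X, ⊤) (Sec A ⊤) c), DCohLib.hom_unit_ext ?_⟩
  show τ.app ⊤ ((DCohLib.secHom A.toModule _).app ⊤ (1 : Γ(X, ⊤))) = (1 : Γ(X, ⊤))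
  rw [DCohLib.secHom_app_one]
  show τ.app ⊤ (res A le_rfl (algebraMap Γ(X, ⊤) (Sec A ⊤) c)) = _
  rw [res_self, app_algebraMap hA hτ, hc]

/-- Sections of the kernel of a split functional. -/
theorem exists_kerEquiv {τ : A.toModule ⟶ Coh.structureModule X} {s : Coh.structureModule X ⟶ A.toModule}
    (hs : s ≫ τ = 𝟙 _) (U : X.Opens) :
    ∃ e : Γ(kernel τ, U) ≃ₗ[Γ(X, U)] LinearMap.ker (lmap τ U), ∀ k, ((e k).1 : Sec A U) = (kernel.ι τ).app U k := by
  let p : A.toModule ⟶ kernel τ := kernel.lift τ (𝟙 _ - τ ≫ s) (by simp [Category.assoc, hs])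
  have hp : p ≫ kernel.ι τ = 𝟙 _ - τ ≫ s := kernel.lift_ι _ _ _
  have hι : kernel.ι τ ≫ p = 𝟙 _ := by
    rw [← cancel_mono (kernel.ι τ), Category.assoc, hp]
    simp
  let F : Γ(kernel τ, U) →ₗ[Γ(X, U)] LinearMap.ker (lmap τ U) :=
    { toFun := fun k => ⟨(kernel.ι τ).app U k,
        show τ.app U ((kernel.ι τ).app U k) = 0 from
          (ConcreteCategory.congr_hom (congrArg (fun φ => Scheme.Modules.Hom.app φ U) (kernel.condition τ)) k).trans
            (by rw [Scheme.Modules.Hom.zero_app]; rfl)⟩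
      map_add' := fun a b => Subtype.ext (map_add ((kernel.ι τ).app U).hom a b)
      map_smul' := fun r a => Subtype.ext (Scheme.Modules.Hom.app_smul (kernel.ι τ) r a) }
  refine ⟨LinearEquiv.ofBijective F ⟨fun a b h => ?_, fun a => ⟨p.app U a.1, Subtype.ext ?_⟩⟩, fun k => rfl⟩
  · have h' : p.app U ((kernel.ι τ).app U a) = p.app U ((kernel.ι τ).app U b) :=
      congrArg (fun z : LinearMap.ker (lmap τ U) => p.app U z.1) h
    have e : ∀ z, p.app U ((kernel.ι τ).app U z) = z := fun z =>
      ConcreteCategory.congr_hom (congrArg (fun φ => Scheme.Modules.Hom.app φ U) hι) z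
    rwa [e, e] at h'
  · show (kernel.ι τ).app U (p.app U a.1) = a.1
    refine (ConcreteCategory.congr_hom (congrArg (fun φ => Scheme.Modules.Hom.app φ U) hp) a.1).trans ?_
    rw [Scheme.Modules.Hom.sub_app]
    show (show Γ(A.toModule, U) from a.1) - s.app U (τ.app U a.1) = (show Γ(A.toModule, U) from a.1)
    rw [show τ.app U a.1 = 0 from a.2, map_zero]
    exact sub_zero _

/-- The kernel of the trace is locally free of rank one less. -/
theorem isFinLocFreeOfRank_kernel {d : ℕ} (hA : FlatMod.IsFinLocFreeOfRank d A.toModule)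
    {τ : A.toModule ⟶ Coh.structureModule X} (hτ : FinCov.IsTrace A τ) (hd : IsUnit ((d : Γ(X, ⊤)))) :
    FlatMod.IsFinLocFreeOfRank (d - 1) (kernel τ) := by
  obtain ⟨s, hs⟩ := exists_section hA hτ hd
  haveI : Coh.IsQCoh (kernel τ) := (QCohLib.isQCoh_image τ (ProjBundleLib.isQCoh_toModule A)
    (CohBase.isQCoh_structureModule (X := X))).1
  intro x
  obtain ⟨W, f, hW, hxW, -, hf⟩ := exists_isFr_rank hA (U := ⊤) (x := x) trivial
  obtain ⟨c, hc⟩ := exists_half hd
  let b := hf.basis (le_refl W)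
  let a : Sec A W := algebraMap Γ(X, W) (Sec A W) (resX le_top c)
  have ha : ∑ i, b.repr a i * lmap τ W (b i) = 1 := by
    have h1 : lmap τ W a = 1 := by
      rw [lmap_apply, app_algebraMap hA hτ, ← map_natCast (resX (show W ≤ ⊤ from le_top)), ← map_mul, hc, map_one]
    conv_rhs => rw [← h1, ← b.sum_repr a, map_sum]
    exact Finset.sum_congr rfl fun i _ => ((lmap τ W).map_smul _ _).symm
  obtain ⟨i, hi⟩ : ∃ i, IsUnit (X.presheaf.germ W x hxW (lmap τ W (b i))) := by
    by_contra hne
    simp only [not_exists] at hne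
    refine (IsLocalRing.maximalIdeal.isMaximal (X.presheaf.stalk x)).ne_top
      ((Ideal.eq_top_iff_one _).2 ?_)
    rw [← map_one (X.presheaf.germ W x hxW).hom, ← ha, map_sum]
    exact Ideal.sum_mem _ fun j _ => by
      rw [map_mul]
      exact Ideal.mul_mem_left _ _ ((IsLocalRing.mem_maximalIdeal _).2 (hne j))
  let r : Γ(X, W) := lmap τ W (b i)
  let D := X.basicOpen r
  have hDW : D ≤ W := X.basicOpen_le r
  have hD : IsAffineOpen D := hW.basicOpen r
  refine ⟨D, (X.mem_basicOpen r x hxW).2 hi, ?_⟩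
  have hu : IsUnit (lmap τ D (hf.basis hDW i)) := by
    rw [lmap_apply, hf.basis_apply, app_map hDW]
    have : IsUnit (resX hDW r) := RingedSpace.isUnit_res_basicOpen X.toRingedSpace r
    simpa [r, b, res_self] using this
  obtain ⟨n, rfl⟩ : ∃ n, d = n + 1 := ⟨d - 1, by have := i.isLt; omega⟩
  obtain ⟨e⟩ := nonempty_ker_equiv (hf.basis hDW) (lmap τ D) hu
  obtain ⟨e', -⟩ := exists_kerEquiv hs D
  exact FlatLocus.nonempty_iso_freeMod (kernel τ) hD n (e'.trans e)

end Groth.Agent.FinCovLib
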